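import Mathlib
import Groth.Prelude
import Groth.Agent.Lib.Helper17.ReesAlg

/-!
# The chart ring `A[I/x]` of the blow-up in `I = (x, y)`: presentation `A[T]/(xT - y)` (helper2)
-/

set_option autoImplicit false
set_option linter.unusedSectionVars false
universe u

open Polynomial HomogeneousLocalization

namespace Groth.Agent.Lib.Helper2.BlowReg

open Groth.Agent.Lib.Helper17.ReesAlg

variable {A : Type u} [CommRing A] [IsDomain A] (I : Ideal A) (x y : A) (hx : x ∈ I) (hy : y ∈ I)

/-- the chart ring. -/
abbrev R := Away (Rees.deg (reesAlgebra I)) (aX I x hx)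

lemma aX_ne_zero (hx0 : x ≠ 0) : aX I x hx ≠ 0 := by
  intro h
  exact hx0 ((mon_eq_zero_iff I 1 x _).1 h)

lemma isDomain_R (hx0 : x ≠ 0) : IsDomain (R I x hx) := by
  haveI : IsDomain (Localization (Submonoid.powers (aX I x hx))) :=
    IsLocalization.isDomain_localization
      (powers_le_nonZeroDivisors_of_noZeroDivisors (aX_ne_zero I x hx hx0))
  let v : R I x hx →+* Localization (Submonoid.powers (aX I x hx)) :=
    { toFun := HomogeneousLocalization.val
      map_one' := val_one
      map_mul' := val_mul
      map_zero' := val_zero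
      map_add' := val_add }
  exact Function.Injective.isDomain v (HomogeneousLocalization.val_injective _)

lemma phi_injective (hx0 : x ≠ 0) : Function.Injective (phi I x hx) := by
  rw [injective_iff_map_eq_zero]
  intro a ha
  have h1 := congrArg HomogeneousLocalization.val ha
  rw [val_phi, val_zero, Localization.mk_eq_mk', IsLocalization.mk'_eq_zero_iff] at h1
  obtain ⟨⟨_, n, rfl⟩, hm⟩ := h1
  have h2 : aX I x hx ^ n ≠ 0 := pow_ne_zero _ (aX_ne_zero I x hx hx0)
  have h3 : algebraMap A (reesAlgebra I) a = 0 := by
    rcases mul_eq_zero.1 hm with h | h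
    · exact absurd h h2
    · exact h
  rw [algebraMap_eq_mon, mon_eq_zero_iff] at h3
  exact h3

/-- `t = y/x`. -/
noncomputable abbrev t : R I x hx := frac I x hx 1 y (by rw [pow_one]; exact hy)

lemma phi_x_mul_t : phi I x hx x * t I x y hx hy = phi I x hx y :=
  (phi_eq_mul_frac I x hx y hy).symm

end Groth.Agent.Lib.Helper2.BlowReg
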