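import Mathlib

/-!
# Abstract presentation lemma: `A[T]/(xT - y) ≅ A[y/x]` for a regular sequence `x, y` (helper2)
-/

set_option autoImplicit false
set_option linter.unusedSectionVars false
universe u

open Polynomial

namespace Groth.Agent.Lib.Helper2.BlowReg

variable {A R' : Type u} [CommRing A] [CommRing R'] [IsDomain R'] (φ : A →+* R') (t : R')
  (x y : A) (I : Ideal A)

/-- `ψ : A[T] → R'`, `T ↦ t`. -/
noncomputable def ψ : A[X] →+* R' := Polynomial.eval₂RingHom φ t

lemma ψ_C (a : A) : ψ φ t (C a) = φ a := by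
  simp [ψ]

lemma ψ_X : ψ φ t X = t := by
  simp [ψ]

/-- the relation `f = xT - y`. -/
noncomputable abbrev f : A[X] := C x * X - C y

lemma ψ_f (hxt : φ x * t = φ y) : ψ φ t (f x y) = 0 := by
  rw [f, map_sub, map_mul, ψ_C, ψ_C, ψ_X, hxt, sub_self]

lemma exists_poly (hxt : φ x * t = φ y) (hI : I = Ideal.span {x, y}) (n : ℕ) (c : A)
    (hc : c ∈ I ^ n) :
    ∃ P : A[X], ψ φ t P * φ x ^ n = φ c := by
  induction n generalizing c with
  | zero => exact ⟨C c, by rw [ψ_C, pow_zero, mul_one]⟩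
  | succ n ih =>
    rw [pow_succ] at hc
    refine Submodule.mul_induction_on hc ?_ ?_
    · intro a ha b hb
      obtain ⟨P, hP⟩ := ih a ha
      rw [hI, Ideal.mem_span_pair] at hb
      obtain ⟨r, s, rfl⟩ := hb
      refine ⟨P * (C r + C s * X), ?_⟩
      rw [map_mul, map_add, map_mul, ψ_C, ψ_C, ψ_X, pow_succ]
      calc ψ φ t P * (φ r + φ s * t) * (φ x ^ n * φ x)
          = (ψ φ t P * φ x ^ n) * (φ r * φ x + φ s * (φ x * t)) := by ring
        _ = φ a * (φ r * φ x + φ s * φ y) := by rw [hP, hxt]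
        _ = φ (a * (r * x + s * y)) := by simp only [map_mul, map_add]
    · rintro c₁ c₂ ⟨P₁, h₁⟩ ⟨P₂, h₂⟩
      exact ⟨P₁ + P₂, by rw [map_add, add_mul, h₁, h₂, map_add]⟩

lemma ψ_surjective (hxt : φ x * t = φ y) (hI : I = Ideal.span {x, y}) (hφx : φ x ≠ 0)
    (hR : ∀ z : R', ∃ (n : ℕ) (c : A), c ∈ I ^ n ∧ z * φ x ^ n = φ c) :
    Function.Surjective (ψ φ t) := by
  intro z
  obtain ⟨n, c, hc, hz⟩ := hR z
  obtain ⟨P, hP⟩ := exists_poly φ t x y I hxt hI n c hc
  refine ⟨P, ?_⟩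
  have hne : φ x ^ n ≠ 0 := pow_ne_zero _ hφx
  exact mul_right_cancel₀ hne (hP.trans hz.symm)

lemma ψ_mul_pow (hxt : φ x * t = φ y) (P : A[X]) (n : ℕ) (hn : P.natDegree ≤ n) :
    ψ φ t P * φ x ^ n =
      φ (∑ i ∈ Finset.range (n + 1), P.coeff i * x ^ (n - i) * y ^ i) := by
  have h1 : ψ φ t P = ∑ i ∈ Finset.range (n + 1), φ (P.coeff i) * t ^ i := by
    unfold ψ
    rw [Polynomial.coe_eval₂RingHom]
    exact Polynomial.eval₂_eq_sum_range' _ (Nat.lt_succ_of_le hn) _
  rw [h1, Finset.sum_mul, map_sum]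
  refine Finset.sum_congr rfl fun i hi => ?_
  have hi' : i ≤ n := Nat.lt_succ_iff.1 (Finset.mem_range.1 hi)
  rw [map_mul, map_mul, map_pow, map_pow, ← hxt]
  calc φ (P.coeff i) * t ^ i * φ x ^ n
      = φ (P.coeff i) * t ^ i * (φ x ^ (n - i) * φ x ^ i) := by rw [pow_sub_mul_pow _ hi']
    _ = φ (P.coeff i) * φ x ^ (n - i) * (φ x * t) ^ i := by ring

lemma mem_span_of_pow_mul (hreg : ∀ a, y * a ∈ Ideal.span {x} → a ∈ Ideal.span {x}) (n : ℕ)
    (a : A) (h : y ^ n * a ∈ Ideal.span {x}) : a ∈ Ideal.span {x} := by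
  induction n with
  | zero => simpa using h
  | succ n ih =>
    apply ih
    apply hreg
    rw [← mul_assoc, ← pow_succ']
    exact h

lemma mem_span_f_of_ψ_eq_zero (hxt : φ x * t = φ y) (hφ : Function.Injective φ)
    (hreg : ∀ a, y * a ∈ Ideal.span {x} → a ∈ Ideal.span {x}) (n : ℕ) :
    ∀ P : A[X], P.natDegree ≤ n → ψ φ t P = 0 → P ∈ Ideal.span {f x y} := by
  induction n with
  | zero =>
    intro P hP h0
    rw [Polynomial.eq_C_of_natDegree_le_zero hP, ψ_C] at h0
    have : P.coeff 0 = 0 := hφ (h0.trans (map_zero _).symm)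
    rw [Polynomial.eq_C_of_natDegree_le_zero hP, this, map_zero]
    exact Ideal.zero_mem _
  | succ n ih =>
    intro P hP h0
    have h1 := ψ_mul_pow φ t x y hxt P (n + 1) hP
    rw [h0, zero_mul] at h1
    have h2 : ∑ i ∈ Finset.range (n + 1 + 1), P.coeff i * x ^ (n + 1 - i) * y ^ i = 0 :=
      hφ (h1.symm.trans (map_zero _).symm)
    rw [Finset.sum_range_succ, Nat.sub_self, pow_zero, mul_one] at h2
    have h3 : ∑ i ∈ Finset.range (n + 1), P.coeff i * x ^ (n + 1 - i) * y ^ i ∈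
        Ideal.span {x} := by
      refine Ideal.sum_mem _ fun i hi => ?_
      have hi' : i ≤ n := Nat.lt_succ_iff.1 (Finset.mem_range.1 hi)
      have e : n + 1 - i = (n - i) + 1 := by omega
      rw [e, pow_succ]
      rw [Ideal.mem_span_singleton']
      exact ⟨P.coeff i * x ^ (n - i) * y ^ i, by ring⟩
    have h4 : y ^ (n + 1) * P.coeff (n + 1) ∈ Ideal.span {x} := by
      have : y ^ (n + 1) * P.coeff (n + 1) =
          -(∑ i ∈ Finset.range (n + 1), P.coeff i * x ^ (n + 1 - i) * y ^ i) := by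
        rw [eq_neg_iff_add_eq_zero, add_comm, mul_comm]
        exact h2
      rw [this]
      exact neg_mem h3
    have h5 := mem_span_of_pow_mul x y hreg (n + 1) _ h4
    rw [Ideal.mem_span_singleton'] at h5
    obtain ⟨b, hb⟩ := h5
    let P' : A[X] := P - (C (b * x) * X ^ (n + 1) - C (b * y) * X ^ n)
    have hP' : P'.natDegree ≤ n := by
      rw [Polynomial.natDegree_le_iff_coeff_eq_zero]
      intro N hN
      simp only [P', Polynomial.coeff_sub, Polynomial.coeff_C_mul_X_pow]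
      by_cases hN1 : N = n + 1
      · subst hN1
        simp [hb]
      · have hN2 : n + 1 < N := by omega
        have hN3 : N ≠ n := by omega
        rw [Polynomial.coeff_eq_zero_of_natDegree_lt (lt_of_le_of_lt hP hN2)]
        simp [hN1, hN3]
    have hfact : C (b * x) * X ^ (n + 1) - C (b * y) * X ^ n = C b * X ^ n * f x y := by
      simp only [f, map_mul]
      ring
    have hψ' : ψ φ t P' = 0 := by
      simp only [P']
      rw [hfact, map_sub, map_mul, ψ_f φ t x y hxt, mul_zero, h0, sub_zero]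
    have h6 := ih P' hP' hψ'
    have h7 : P = P' + C b * X ^ n * f x y := by
      simp only [P']
      rw [hfact]
      ring
    rw [h7]
    exact Ideal.add_mem _ h6 (Ideal.mul_mem_left _ _ (Ideal.subset_span rfl))

theorem ker_ψ (hxt : φ x * t = φ y) (hφ : Function.Injective φ)
    (hreg : ∀ a, y * a ∈ Ideal.span {x} → a ∈ Ideal.span {x}) :
    RingHom.ker (ψ φ t) = Ideal.span {f x y} := by
  apply le_antisymm
  · intro P hP
    exact mem_span_f_of_ψ_eq_zero φ t x y hxt hφ hreg P.natDegree P le_rfl hP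
  · rw [Ideal.span_le, Set.singleton_subset_iff]
    exact ψ_f φ t x y hxt

end Groth.Agent.Lib.Helper2.BlowReg
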