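import Groth.Agent.Lib.Helper2.BlowReg.Alg2

/-!
# `A[y/x]/(x) ≅ (A/(x,y))[T]` (helper2)
-/

set_option autoImplicit false
set_option linter.unusedSectionVars false
universe u

open Polynomial

namespace Groth.Agent.Lib.Helper2.BlowReg

variable {A R' : Type u} [CommRing A] [CommRing R'] [IsDomain R'] (φ : A →+* R') (t : R')
  (x y : A)

/-- `χ : A[T] → R'/(x)`. -/
noncomputable def χ : A[X] →+* R' ⧸ Ideal.span {φ x} :=
  (Ideal.Quotient.mk (Ideal.span {φ x})).comp (ψ φ t)

lemma χ_surjective (hsurj : Function.Surjective (ψ φ t)) : Function.Surjective (χ φ t x) :=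
  Ideal.Quotient.mk_surjective.comp hsurj

lemma span_sup_eq : Ideal.span {(C x : A[X])} ⊔ Ideal.span {f x y} =
    Ideal.map C (Ideal.span {x, y}) := by
  rw [Ideal.map_span, Set.image_pair]
  apply le_antisymm
  · rw [sup_le_iff, Ideal.span_le, Ideal.span_le, Set.singleton_subset_iff,
      Set.singleton_subset_iff]
    constructor
    · exact Ideal.subset_span (Set.mem_insert _ _)
    · exact Ideal.sub_mem _
        (Ideal.mul_mem_right _ _ (Ideal.subset_span (Set.mem_insert _ _)))
        (Ideal.subset_span (Set.mem_insert_of_mem _ rfl))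
  · rw [Ideal.span_le]
    rintro _ (rfl | rfl)
    · exact Ideal.mem_sup_left (Ideal.subset_span rfl)
    · have e : (C y : A[X]) = C x * X - f x y := by simp [f]
      rw [e]
      exact Ideal.sub_mem _
        (Ideal.mem_sup_left (Ideal.mul_mem_right _ _ (Ideal.subset_span rfl)))
        (Ideal.mem_sup_right (Ideal.subset_span rfl))

lemma ker_χ (hsurj : Function.Surjective (ψ φ t))
    (hker : RingHom.ker (ψ φ t) = Ideal.span {f x y}) :
    RingHom.ker (χ φ t x) = Ideal.map C (Ideal.span {x, y}) := by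
  have h1 : RingHom.ker (χ φ t x) = Ideal.comap (ψ φ t) (Ideal.span {φ x}) := by
    unfold χ
    rw [← RingHom.comap_ker, Ideal.mk_ker]
  have h2 : Ideal.span {φ x} = Ideal.map (ψ φ t) (Ideal.span {(C x : A[X])}) := by
    rw [Ideal.map_span, Set.image_singleton, ψ_C]
  rw [h1, h2, Ideal.comap_map_of_surjective _ hsurj, ← RingHom.ker_eq_comap_bot, hker]
  exact span_sup_eq x y

/-- `R'/(x) ≃ (A/(x,y))[T]`. -/
noncomputable def quotEquiv (hsurj : Function.Surjective (ψ φ t))
    (hker : RingHom.ker (ψ φ t) = Ideal.span {f x y}) :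
    (R' ⧸ Ideal.span {φ x}) ≃+* (A ⧸ (Ideal.span {x, y} : Ideal A))[X] :=
  ((RingHom.quotientKerEquivOfSurjective (χ_surjective φ t x hsurj)).symm.trans
    (Ideal.quotEquivOfEq (ker_χ φ t x y hsurj hker))).trans
    (Ideal.polynomialQuotientEquivQuotientPolynomial (Ideal.span {x, y})).symm

theorem isDomain_quot (hsurj : Function.Surjective (ψ φ t))
    (hker : RingHom.ker (ψ φ t) = Ideal.span {f x y})
    (hmax : (Ideal.span {x, y} : Ideal A).IsMaximal) :
    IsDomain (R' ⧸ Ideal.span {φ x}) := by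
  letI := Ideal.Quotient.field (Ideal.span {x, y} : Ideal A)
  exact (quotEquiv φ t x y hsurj hker).toMulEquiv.isDomain _

theorem isPrincipalIdealRing_quot (hsurj : Function.Surjective (ψ φ t))
    (hker : RingHom.ker (ψ φ t) = Ideal.span {f x y})
    (hmax : (Ideal.span {x, y} : Ideal A).IsMaximal) :
    IsPrincipalIdealRing (R' ⧸ Ideal.span {φ x}) := by
  letI := Ideal.Quotient.field (Ideal.span {x, y} : Ideal A)
  exact IsPrincipalIdealRing.of_surjective (quotEquiv φ t x y hsurj hker).symm.toRingHom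
    (quotEquiv φ t x y hsurj hker).symm.surjective

end Groth.Agent.Lib.Helper2.BlowReg
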