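import Mathlib
import Groth.Agent.Lib.Helper26.RegularRing
import Groth.Agent.Lib.Helper5.RegQuot

/-!
# Regularity of `A[y/x]` at primes (abstract form) (helper2)
-/

set_option autoImplicit false
set_option linter.style.haveILetI false
set_option linter.unusedSectionVars false
universe u

namespace Groth.Agent.Lib.Helper2.BlowReg

variable {A R' : Type u} [CommRing A] [CommRing R'] [IsDomain R'] (φ : A →+* R') (x : A)

/-- primes not containing `x`: the localization is a localization of `A`. -/
theorem regular_of_not_mem [IsRegularLocalRing A] (hφ : Function.Injective φ)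
    (hR : ∀ z : R', ∃ (n : ℕ) (c : A), z * φ x ^ n = φ c)
    (q : Ideal R') [q.IsPrime] (hxq : φ x ∉ q) :
    IsRegularLocalRing (Localization.AtPrime q) := by
  letI : Algebra A (Localization.AtPrime q) :=
    ((algebraMap R' (Localization.AtPrime q)).comp φ).toAlgebra
  have halg : ∀ a : A, algebraMap A (Localization.AtPrime q) a =
      algebraMap R' (Localization.AtPrime q) (φ a) := fun a => rfl
  have hinj : Function.Injective (algebraMap R' (Localization.AtPrime q)) :=
    IsLocalization.injective _ (Ideal.primeCompl_le_nonZeroDivisors q)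
  haveI : IsLocalization.AtPrime (Localization.AtPrime q) (q.comap φ) := by
    rw [IsLocalization.AtPrime, isLocalization_iff]
    refine ⟨?_, ?_, ?_⟩
    · rintro ⟨a, ha⟩
      rw [halg]
      exact IsLocalization.map_units (Localization.AtPrime q) (⟨φ a, ha⟩ : q.primeCompl)
    · intro z
      obtain ⟨⟨r, u⟩, hz⟩ := IsLocalization.surj q.primeCompl z
      obtain ⟨n, c, hc⟩ := hR r
      obtain ⟨k, d, hd⟩ := hR u.1
      have hs : d * x ^ n ∈ (q.comap φ).primeCompl := by
        change φ (d * x ^ n) ∉ q
        rw [map_mul, map_pow, ← hd]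
        intro hmem
        rcases Ideal.IsPrime.mem_or_mem ‹q.IsPrime› hmem with h | h
        · rcases Ideal.IsPrime.mem_or_mem ‹q.IsPrime› h with h' | h'
          · exact u.2 h'
          · exact hxq (Ideal.IsPrime.mem_of_pow_mem ‹q.IsPrime› _ h')
        · exact hxq (Ideal.IsPrime.mem_of_pow_mem ‹q.IsPrime› _ h)
      refine ⟨⟨c * x ^ k, ⟨d * x ^ n, hs⟩⟩, ?_⟩
      change z * algebraMap A (Localization.AtPrime q) (d * x ^ n) =
        algebraMap A (Localization.AtPrime q) (c * x ^ k)
      rw [halg, halg, map_mul φ, map_pow φ, ← hd, map_mul φ, map_pow φ, ← hc]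
      have e1 : (u : R') * φ x ^ k * φ x ^ n = (u : R') * (φ x ^ k * φ x ^ n) := by ring
      have e2 : r * φ x ^ n * φ x ^ k = r * (φ x ^ k * φ x ^ n) := by ring
      rw [e1, e2, map_mul (algebraMap R' (Localization.AtPrime q)),
        map_mul (algebraMap R' (Localization.AtPrime q)), ← mul_assoc, hz]
      simp only [map_mul]
    · intro a b hab
      refine ⟨1, ?_⟩
      rw [halg, halg] at hab
      rw [hφ (hinj hab)]
  haveI := Groth.Agent.Lib.Helper26.RegularRing.isRegularRing_of_isRegularLocalRing A
  exact Groth.Agent.Lib.Helper26.RegularRing.isRegularLocalRing_of_isLocalization_atPrime A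
    (q.comap φ) (Localization.AtPrime q)

/-- primes containing `x`: the quotient by `x` is a localization of a principal ideal domain. -/
theorem regular_of_mem [IsNoetherianRing R'] (r : R') (hr : r ≠ 0)
    [IsDomain (R' ⧸ Ideal.span {r})] [IsPrincipalIdealRing (R' ⧸ Ideal.span {r})]
    (q : Ideal R') [q.IsPrime] (hrq : r ∈ q) :
    IsRegularLocalRing (Localization.AtPrime q) := by
  let I₀ : Ideal R' := Ideal.span {r}
  let J : Ideal (Localization.AtPrime q) := I₀.map (algebraMap R' (Localization.AtPrime q))
  have hI₀q : I₀ ≤ q := (Ideal.span_singleton_le_iff_mem _).2 hrq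
  have hinj : Function.Injective (algebraMap R' (Localization.AtPrime q)) :=
    IsLocalization.injective _ (Ideal.primeCompl_le_nonZeroDivisors q)
  let a : Localization.AtPrime q := algebraMap R' (Localization.AtPrime q) r
  have ha0 : a ≠ 0 := fun h => hr (hinj (h.trans (map_zero _).symm))
  have ha : a ∈ IsLocalRing.maximalIdeal (Localization.AtPrime q) := by
    rw [← Localization.AtPrime.map_eq_maximalIdeal]
    exact Ideal.mem_map_of_mem _ hrq
  have hJ : J = Ideal.span {a} := by
    simp only [J, I₀, a]
    rw [Ideal.map_span, Set.image_singleton]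
  have hJne : J ≠ ⊤ := by
    intro h
    have h1 : J ≤ IsLocalRing.maximalIdeal (Localization.AtPrime q) := by
      rw [hJ, Ideal.span_singleton_le_iff_mem]
      exact ha
    rw [h] at h1
    exact (IsLocalRing.maximalIdeal.isMaximal (Localization.AtPrime q)).ne_top
      (top_le_iff.1 h1)
  haveI : Nontrivial (Localization.AtPrime q ⧸ J) := Ideal.Quotient.nontrivial_iff.2 hJne
  haveI : IsLocalRing (Localization.AtPrime q ⧸ J) :=
    IsLocalRing.of_surjective' (Ideal.Quotient.mk J) Ideal.Quotient.mk_surjective
  have hM : Algebra.algebraMapSubmonoid (R' ⧸ I₀) q.primeCompl ≤ nonZeroDivisors (R' ⧸ I₀) := by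
    rintro _ ⟨u, hu, rfl⟩
    apply mem_nonZeroDivisors_of_ne_zero
    intro h0
    exact hu (hI₀q (Ideal.Quotient.eq_zero_iff_mem.1 h0))
  haveI : IsDomain (Localization.AtPrime q ⧸ J) :=
    IsLocalization.isDomain_of_le_nonZeroDivisors (Localization.AtPrime q ⧸ J) hM
  haveI : IsDedekindDomain (Localization.AtPrime q ⧸ J) :=
    IsLocalization.isDedekindDomain (R' ⧸ I₀) hM (Localization.AtPrime q ⧸ J)
  haveI : IsRegularLocalRing (Localization.AtPrime q ⧸ J) :=
    IsRegularLocalRing.of_isRegularRing_of_isLocalRing _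
  have hreg : RingTheory.Sequence.IsRegular (Localization.AtPrime q) [a] := by
    apply RingTheory.Sequence.IsRegular.of_isWeaklyRegular_of_mem_maximalIdeal
    · intro s hs
      rw [List.mem_singleton] at hs
      rw [hs]
      exact ha
    · rw [RingTheory.Sequence.isWeaklyRegular_singleton_iff]
      exact (IsRegular.of_ne_zero ha0).left.isSMulRegular
  have e : Ideal.ofList [a] = J := by rw [Ideal.ofList_singleton, hJ]
  exact Groth.Agent.Lib.Helper5.RegQuot.isRegularLocalRing_of_quotient (Localization.AtPrime q)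
    [a] hreg (IsRegularLocalRing.of_ringEquiv (Ideal.quotEquivOfEq e.symm))

theorem isRegularRing_chart [IsRegularLocalRing A] [IsNoetherianRing R']
    (hφ : Function.Injective φ) (hx0 : x ≠ 0)
    (hR : ∀ z : R', ∃ (n : ℕ) (c : A), z * φ x ^ n = φ c)
    [IsDomain (R' ⧸ Ideal.span {φ x})] [IsPrincipalIdealRing (R' ⧸ Ideal.span {φ x})] :
    IsRegularRing R' := by
  rw [isRegularRing_iff]
  intro q _
  by_cases h : φ x ∈ q
  · exact regular_of_mem (φ x) (fun h0 => hx0 (hφ (h0.trans (map_zero _).symm))) q h
  · exact regular_of_not_mem φ x hφ hR q h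

end Groth.Agent.Lib.Helper2.BlowReg
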