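import Groth.Agent.Lib.Helper2.BlowReg.Alg1
import Groth.Agent.Lib.Helper2.BlowReg.Alg3
import Groth.Agent.Lib.Helper2.BlowReg.Alg4
import Groth.Agent.Lib.Helper26.RegSeq

/-!
# The chart rings of the blow-up of a two-dimensional regular local ring are regular (helper2)
-/

set_option autoImplicit false
set_option linter.style.haveILetI false
set_option linter.unusedSectionVars false
universe u

open Polynomial HomogeneousLocalization

namespace Groth.Agent.Lib.Helper2.BlowReg

open Groth.Agent.Lib.Helper17.ReesAlg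

variable (A : Type u) [CommRing A] [IsRegularLocalRing A]

lemma regular_pair (hA : ringKrullDim A = 2) (x y : A)
    (hm : IsLocalRing.maximalIdeal A = Ideal.span {x, y}) :
    x ≠ 0 ∧ ∀ a, y * a ∈ Ideal.span {x} → a ∈ Ideal.span {x} := by
  have hA' : ringKrullDim A = ((2 : ℕ) : WithBot ℕ∞) := hA
  have hspan : Ideal.span (Set.range ![x, y]) = IsLocalRing.maximalIdeal A := by
    rw [hm]
    congr 1
    ext z
    simp only [Set.mem_range, Set.mem_insert_iff, Set.mem_singleton_iff]
    constructor
    · rintro ⟨i, rfl⟩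
      fin_cases i
      · left; rfl
      · right; rfl
    · rintro (rfl | rfl)
      · exact ⟨0, rfl⟩
      · exact ⟨1, rfl⟩
  have h := Groth.Agent.Lib.Helper26.RegSeq.isWeaklyRegular_ofFn hA' ![x, y] hspan
  have hl : List.ofFn ![x, y] = [x, y] := by simp
  rw [hl, RingTheory.Sequence.isWeaklyRegular_cons_iff,
    RingTheory.Sequence.isWeaklyRegular_singleton_iff] at h
  obtain ⟨h1, h2⟩ := h
  constructor
  · rintro rfl
    have : (1 : A) = 0 := h1 (by simp)
    exact one_ne_zero this
  · intro a ha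
    rw [Ideal.mem_span_singleton'] at ha
    obtain ⟨b, hb⟩ := ha
    have h3 : y • (Submodule.Quotient.mk a : QuotSMulTop x A) = y • 0 := by
      rw [smul_zero, ← Submodule.Quotient.mk_smul, Submodule.Quotient.mk_eq_zero,
        Submodule.mem_smul_pointwise_iff_exists]
      exact ⟨b, Submodule.mem_top, by rw [smul_eq_mul, smul_eq_mul, mul_comm, hb]⟩
    have h4 := h2 h3
    rw [Submodule.Quotient.mk_eq_zero, Submodule.mem_smul_pointwise_iff_exists] at h4
    obtain ⟨c, -, hc⟩ := h4
    rw [Ideal.mem_span_singleton']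
    exact ⟨c, by rw [← hc, smul_eq_mul, mul_comm]⟩

theorem isRegularRing_chart_ring (hA : ringKrullDim A = 2) (x y : A)
    (hm : IsLocalRing.maximalIdeal A = Ideal.span {x, y})
    (hx : x ∈ IsLocalRing.maximalIdeal A) :
    IsRegularRing (Away (Rees.deg (reesAlgebra (IsLocalRing.maximalIdeal A)))
      (aX (IsLocalRing.maximalIdeal A) x hx)) := by
  haveI : IsDomain A := Groth.Agent.Lib.Helper9.RegLocal.isDomain_of_isRegularLocalRing A
  obtain ⟨hx0, hreg⟩ := regular_pair A hA x y hm
  have hy : y ∈ IsLocalRing.maximalIdeal A := by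
    rw [hm]; exact Ideal.subset_span (Set.mem_insert_of_mem _ rfl)
  haveI := isDomain_R (IsLocalRing.maximalIdeal A) x hx hx0
  have hφ := phi_injective (IsLocalRing.maximalIdeal A) x hx hx0
  have hxt := phi_x_mul_t (IsLocalRing.maximalIdeal A) x y hx hy
  have hR : ∀ z : R (IsLocalRing.maximalIdeal A) x hx, ∃ (n : ℕ) (c : A),
      c ∈ IsLocalRing.maximalIdeal A ^ n ∧
        z * phi (IsLocalRing.maximalIdeal A) x hx x ^ n =
          phi (IsLocalRing.maximalIdeal A) x hx c := by
    intro z
    obtain ⟨n, c, hc, rfl⟩ := exists_eq_frac (IsLocalRing.maximalIdeal A) x hx z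
    exact ⟨n, c, hc, frac_mul_phi_pow (IsLocalRing.maximalIdeal A) x hx n c hc⟩
  have hφx : phi (IsLocalRing.maximalIdeal A) x hx x ≠ 0 := fun h0 =>
    hx0 (hφ (h0.trans (map_zero _).symm))
  have hsurj := ψ_surjective (phi (IsLocalRing.maximalIdeal A) x hx)
    (t (IsLocalRing.maximalIdeal A) x y hx hy) x y (IsLocalRing.maximalIdeal A) hxt hm hφx hR
  have hker := ker_ψ (phi (IsLocalRing.maximalIdeal A) x hx)
    (t (IsLocalRing.maximalIdeal A) x y hx hy) x y hxt hφ hreg
  have hmax : (Ideal.span {x, y} : Ideal A).IsMaximal := by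
    rw [← hm]; infer_instance
  haveI := isDomain_quot (phi (IsLocalRing.maximalIdeal A) x hx)
    (t (IsLocalRing.maximalIdeal A) x y hx hy) x y hsurj hker hmax
  haveI := isPrincipalIdealRing_quot (phi (IsLocalRing.maximalIdeal A) x hx)
    (t (IsLocalRing.maximalIdeal A) x y hx hy) x y hsurj hker hmax
  haveI : IsNoetherianRing (R (IsLocalRing.maximalIdeal A) x hx) :=
    isNoetherianRing_of_surjective A[X] _ _ hsurj
  exact isRegularRing_chart (phi (IsLocalRing.maximalIdeal A) x hx) x hφ hx0
    (fun z => by obtain ⟨n, c, -, h⟩ := hR z; exact ⟨n, c, h⟩)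

end Groth.Agent.Lib.Helper2.BlowReg
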