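import Groth.Agent.Lib.Helper2.BlowReg.Sch

/-!
# Main theorem: blow-up of a two-dimensional regular local ring in its maximal ideal (helper2)
-/

set_option autoImplicit false
set_option linter.style.haveILetI false
set_option linter.unusedSectionVars false
universe u

open CategoryTheory CategoryTheory.Limits AlgebraicGeometry TopologicalSpace Opposite
  HomogeneousLocalization

namespace Groth.Agent.Lib.Helper2.BlowReg

open Groth.Agent.Lib.Helper17.ReesAlg Groth.Agent.Lib.Helper17.ProjRees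
  Groth.Agent.Lib.Helper17.StrictTransform Groth.Agent.Lib.Helper2.AffStrat

/-- stalks in an affine open with regular coordinate ring are regular. -/
lemma isRegularLocalRing_stalk_of_chart {X : Scheme.{u}} {R : Type u} [CommRing R]
    [IsRegularRing R] (c : Spec (CommRingCat.of R) ⟶ X) [IsOpenImmersion c]
    (z : Spec (CommRingCat.of R)) : IsRegularLocalRing (X.presheaf.stalk (c z)) := by
  let U : X.Opens := c ''ᵁ ⊤
  have hU : IsAffineOpen U := (isAffineOpen_top (Spec (CommRingCat.of R))).image_of_isOpenImmersion c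
  have hp : c z ∈ U := ⟨z, trivial, rfl⟩
  let e : Γ(X, U) ≅ CommRingCat.of R := c.appIso ⊤ ≪≫ Scheme.ΓSpecIso (CommRingCat.of R)
  haveI : IsRegularRing Γ(X, U) := IsRegularRing.of_ringEquiv e.commRingCatIsoToRingEquiv.symm
  letI := X.presheaf.algebra_section_stalk ⟨c z, hp⟩
  haveI := hU.isLocalization_stalk ⟨c z, hp⟩
  exact Groth.Agent.Lib.Helper26.RegularRing.isRegularLocalRing_of_isLocalization_atPrime
    Γ(X, U) (hU.primeIdealOf ⟨c z, hp⟩).asIdeal (X.presheaf.stalk (c z))

theorem main (A : Type u) [CommRing A] [IsRegularLocalRing A] (hA : ringKrullDim A = 2)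
    (X : Scheme.{u}) (b : X ⟶ Spec (CommRingCat.of A))
    (hb : BlowUp.IsBlowUp b (Curv2.idealSheaf A (IsLocalRing.maximalIdeal A))) :
    IrreducibleSpace X ∧ ∀ x : X, IsRegularLocalRing (X.presheaf.stalk x) := by
  haveI : IsDomain A := Groth.Agent.Lib.Helper9.RegLocal.isDomain_of_isRegularLocalRing A
  obtain ⟨g, hg⟩ := exists_span_pair_of_regular_dim_two A hA
  obtain ⟨φ, hφ⟩ := isBlowUp_iso _ _ _ hb (isBlowUp_proj_reesAlgebra A (IsLocalRing.maximalIdeal A))
  have hgI : ∀ i, g i ∈ IsLocalRing.maximalIdeal A := fun i => by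
    rw [hg]; exact Ideal.subset_span ⟨i, rfl⟩
  have hrange : Set.range g = {g 0, g 1} := by
    ext w
    simp only [Set.mem_range, Set.mem_insert_iff, Set.mem_singleton_iff]
    constructor
    · rintro ⟨i, rfl⟩
      fin_cases i
      · left; rfl
      · right; rfl
    · rintro (rfl | rfl)
      · exact ⟨0, rfl⟩
      · exact ⟨1, rfl⟩
  have hm01 : IsLocalRing.maximalIdeal A = Ideal.span {g 0, g 1} := by rw [hg, hrange]
  have hm10 : IsLocalRing.maximalIdeal A = Ideal.span {g 1, g 0} := by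
    rw [hm01, Set.pair_comm]
  obtain ⟨h0ne, -⟩ := regular_pair A hA (g 0) (g 1) hm01
  obtain ⟨h1ne, -⟩ := regular_pair A hA (g 1) (g 0) hm10
  haveI := isRegularRing_chart_ring A hA (g 0) (g 1) hm01 (hgI 0)
  haveI := isRegularRing_chart_ring A hA (g 1) (g 0) hm10 (hgI 1)
  haveI := isDomain_R (IsLocalRing.maximalIdeal A) (g 0) (hgI 0) h0ne
  haveI := isDomain_R (IsLocalRing.maximalIdeal A) (g 1) (hgI 1) h1ne
  -- the two charts
  let c0 := chart A (IsLocalRing.maximalIdeal A) (g 0) (hgI 0) ≫ φ.inv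
  let c1 := chart A (IsLocalRing.maximalIdeal A) (g 1) (hgI 1) ≫ φ.inv
  have hcov : ∀ p : X, (∃ z, c0 z = p) ∨ (∃ z, c1 z = p) := by
    intro p
    have h := Proj.iSup_basicOpen_eq_top (Rees.deg (reesAlgebra (IsLocalRing.maximalIdeal A)))
      (fun i : Fin 2 => aX (IsLocalRing.maximalIdeal A) (g i) (hgI i))
      (irrelevant_le_span_of_span A (IsLocalRing.maximalIdeal A) g hg)
    have hx : φ.hom p ∈
        (⊤ : (Proj (Rees.deg (reesAlgebra (IsLocalRing.maximalIdeal A)))).Opens) := trivial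
    rw [← h] at hx
    obtain ⟨i, hi⟩ := Opens.mem_iSup.1 hx
    rw [← opensRange_chart] at hi
    obtain ⟨z, hz⟩ := hi
    fin_cases i
    · left
      refine ⟨z, ?_⟩
      change (chart A (IsLocalRing.maximalIdeal A) (g 0) (hgI 0) ≫ φ.inv) z = p
      rw [Scheme.Hom.comp_apply]
      exact (congrArg (fun w => φ.inv w) hz).trans (Scheme.hom_inv_apply φ p)
    · right
      refine ⟨z, ?_⟩
      change (chart A (IsLocalRing.maximalIdeal A) (g 1) (hgI 1) ≫ φ.inv) z = p
      rw [Scheme.Hom.comp_apply]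
      exact (congrArg (fun w => φ.inv w) hz).trans (Scheme.hom_inv_apply φ p)
  constructor
  · -- irreducibility
    have hirr : ∀ {R : Type u} [CommRing R] [IsDomain R] (c : Spec (CommRingCat.of R) ⟶ X),
        IsIrreducible (Set.range c) := by
      intro R _ _ c
      haveI : IrreducibleSpace (Spec (CommRingCat.of R)) :=
        inferInstanceAs (IrreducibleSpace (PrimeSpectrum R))
      have := (IrreducibleSpace.isIrreducible_univ (Spec (CommRingCat.of R))).image c
        c.continuous.continuousOn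
      rwa [Set.image_univ] at this
    obtain ⟨w, hw0, hw1⟩ := exists_mem_basicOpen_inter (IsLocalRing.maximalIdeal A) (g 0) (g 1)
      (hgI 0) (hgI 1) h0ne h1ne
    rw [← opensRange_chart] at hw0 hw1
    obtain ⟨z0, hz0⟩ := hw0
    obtain ⟨z1, hz1⟩ := hw1
    refine irreducibleSpace_of_two_opens (Set.range c0) (Set.range c1)
      c0.isOpenEmbedding.isOpen_range c1.isOpenEmbedding.isOpen_range (hirr c0) (hirr c1)
      ⟨φ.inv w, ⟨z0, ?_⟩, ⟨z1, ?_⟩⟩ (fun p => ?_)
    · change (chart A (IsLocalRing.maximalIdeal A) (g 0) (hgI 0) ≫ φ.inv) z0 = φ.inv w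
      rw [Scheme.Hom.comp_apply]
      exact congrArg (fun w => φ.inv w) hz0
    · change (chart A (IsLocalRing.maximalIdeal A) (g 1) (hgI 1) ≫ φ.inv) z1 = φ.inv w
      rw [Scheme.Hom.comp_apply]
      exact congrArg (fun w => φ.inv w) hz1
    · rcases hcov p with ⟨z, hz⟩ | ⟨z, hz⟩
      · exact Or.inl ⟨z, hz⟩
      · exact Or.inr ⟨z, hz⟩
  · intro p
    rcases hcov p with ⟨z, hz⟩ | ⟨z, hz⟩
    · rw [← hz]
      exact isRegularLocalRing_stalk_of_chart c0 z
    · rw [← hz]
      exact isRegularLocalRing_stalk_of_chart c1 z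

end Groth.Agent.Lib.Helper2.BlowReg
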