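import Groth.Agent.Lib.Helper2.BlowReg.Alg5
import Groth.Agent.Lib.Helper2.AffStrat.BlowUp

/-!
# The blow-up of a two-dimensional regular local ring in its maximal ideal is regular and
irreducible (helper2)
-/

set_option autoImplicit false
set_option linter.style.haveILetI false
set_option linter.unusedSectionVars false
universe u

open CategoryTheory CategoryTheory.Limits AlgebraicGeometry TopologicalSpace Opposite
  HomogeneousLocalization

namespace Groth.Agent.Lib.Helper2.BlowReg

open Groth.Agent.Lib.Helper17.ReesAlg Groth.Agent.Lib.Helper17.ProjRees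
  Groth.Agent.Lib.Helper17.StrictTransform Groth.Agent.Lib.Helper2.AffStrat

lemma irreducibleSpace_of_two_opens {T : Type*} [TopologicalSpace T] (U V : Set T)
    (hU : IsOpen U) (hV : IsOpen V) (hUi : IsIrreducible U) (hVi : IsIrreducible V)
    (hUV : (U ∩ V).Nonempty) (hcov : ∀ p : T, p ∈ U ∨ p ∈ V) : IrreducibleSpace T := by
  have key : ∀ u : Set T, IsOpen u → u.Nonempty → (U ∩ (u ∩ V)).Nonempty := by
    intro u hu ⟨p, hp⟩
    rcases hcov p with h | h
    · exact hUi.2 u V hu hV ⟨p, h, hp⟩ hUV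
    · have h1 : (V ∩ (u ∩ U)).Nonempty :=
        hVi.2 u U hu hU ⟨p, h, hp⟩ (by rw [Set.inter_comm]; exact hUV)
      obtain ⟨q, hqV, hqu, hqU⟩ := h1
      exact ⟨q, hqU, hqu, hqV⟩
  haveI : Nonempty T := ⟨hUV.some⟩
  refine { toPreirreducibleSpace := ⟨?_⟩, toNonempty := inferInstance }
  intro u v hu hv ⟨p, _, hp⟩ ⟨q, _, hq⟩
  have h1 := key u hu ⟨p, hp⟩
  have h2 := key v hv ⟨q, hq⟩
  obtain ⟨r, -, ⟨hru, -⟩, hrv, -⟩ := hUi.2 (u ∩ V) (v ∩ V) (hu.inter hV) (hv.inter hV) h1 h2
  exact ⟨r, trivial, hru, hrv⟩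

variable {A : Type u} [CommRing A] [IsDomain A] (I : Ideal A)

lemma isDomain_away (f : reesAlgebra I) (hf : f ≠ 0) :
    IsDomain (Away (Rees.deg (reesAlgebra I)) f) := by
  haveI : IsDomain (Localization (Submonoid.powers f)) :=
    IsLocalization.isDomain_localization (powers_le_nonZeroDivisors_of_noZeroDivisors hf)
  let v : Away (Rees.deg (reesAlgebra I)) f →+* Localization (Submonoid.powers f) :=
    { toFun := HomogeneousLocalization.val
      map_one' := val_one
      map_mul' := val_mul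
      map_zero' := val_zero
      map_add' := val_add }
  exact Function.Injective.isDomain v (HomogeneousLocalization.val_injective _)

lemma exists_mem_basicOpen_inter (x y : A) (hx : x ∈ I) (hy : y ∈ I) (hx0 : x ≠ 0)
    (hy0 : y ≠ 0) :
    ∃ w : Proj (Rees.deg (reesAlgebra I)),
      w ∈ Proj.basicOpen (Rees.deg (reesAlgebra I)) (aX I x hx) ∧
      w ∈ Proj.basicOpen (Rees.deg (reesAlgebra I)) (aX I y hy) := by
  have hne : aX I x hx * aX I y hy ≠ 0 :=
    mul_ne_zero (aX_ne_zero I x hx hx0) (aX_ne_zero I y hy hy0)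
  have hdeg : aX I x hx * aX I y hy ∈ Rees.deg (reesAlgebra I) (1 + 1) :=
    SetLike.mul_mem_graded (aX_mem I x hx) (aX_mem I y hy)
  haveI := isDomain_away I _ hne
  let j := Proj.awayι (Rees.deg (reesAlgebra I)) (aX I x hx * aX I y hy) hdeg (by norm_num)
  have hr : j.opensRange = Proj.basicOpen (Rees.deg (reesAlgebra I)) (aX I x hx * aX I y hy) :=
    Proj.opensRange_awayι _ _ _ _
  haveI : Nonempty (Spec (CommRingCat.of
      (Away (Rees.deg (reesAlgebra I)) (aX I x hx * aX I y hy)))) :=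
    inferInstanceAs (Nonempty (PrimeSpectrum _))
  obtain ⟨z⟩ := ‹Nonempty (Spec (CommRingCat.of
      (Away (Rees.deg (reesAlgebra I)) (aX I x hx * aX I y hy))))›
  have hz : j z ∈ j.opensRange := ⟨z, rfl⟩
  rw [hr, Proj.basicOpen_mul] at hz
  exact ⟨j z, hz.1, hz.2⟩

end Groth.Agent.Lib.Helper2.BlowReg
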